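import Mathlib

/-!
# Base change of an affine morphism to reduced schemes over an open
-/

set_option autoImplicit false
set_option linter.style.haveILetI false
set_option backward.isDefEq.respectTransparency false
universe u

open CategoryTheory CategoryTheory.Limits AlgebraicGeometry TopologicalSpace TensorProduct

namespace Groth.Agent.GrpdDimOne19

variable {R U : Scheme.{u}} (t : R ⟶ U)

/-- Base change of an affine morphism to an affine scheme over an affine open. -/
theorem isPullback_tensor [IsAffineHom t] {V : U.Opens} (hV : IsAffineOpen V) (A' : Type u) [CommRing A'] [Algebra Γ(U, V) A'] :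
    letI := (t.app V).hom.toAlgebra
    IsPullback
      (Spec.map (CommRingCat.ofHom (algebraMap A' (A' ⊗[Γ(U, V)] Γ(R, t ⁻¹ᵁ V)))))
      (Spec.map (CommRingCat.ofHom
        (Algebra.TensorProduct.includeRight (R := Γ(U, V)) (A := A') (B := Γ(R, t ⁻¹ᵁ V))).toRingHom) ≫
          (hV.preimage t).fromSpec)
      (Spec.map (CommRingCat.ofHom (algebraMap Γ(U, V) A')) ≫ hV.fromSpec) t := by
  letI := (t.app V).hom.toAlgebra
  have h1 := isPullback_SpecMap_of_isPushout _ _ _ _
    (CommRingCat.isPushout_tensorProduct Γ(U, V) A' Γ(R, t ⁻¹ᵁ V))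
  have H : (hV.preimage t).fromSpec ≫ t = Spec.map (t.app V) ≫ hV.fromSpec := by
    rw [Scheme.Hom.app_eq_appLE]
    exact (IsAffineOpen.SpecMap_appLE_fromSpec t hV (hV.preimage t) le_rfl).symm
  have h2 : IsPullback (Spec.map (t.app V)) (hV.preimage t).fromSpec hV.fromSpec t :=
    IsOpenImmersion.isPullback _ _ _ _ H (by rw [IsAffineOpen.opensRange_fromSpec, IsAffineOpen.opensRange_fromSpec])
  exact h1.paste_vert h2

/-- `t` becomes flat over every reduced scheme mapping into `Ω`. -/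
def FlatRed (Ω : U.Opens) : Prop :=
  ∀ (T : Scheme.{u}) [IsReduced T] (m : T ⟶ U), (∀ z, m z ∈ Ω) → Flat (pullback.fst m t)

/-- Near a point with no proper generization the morphism becomes flat over reduced schemes. -/
theorem exists_flatRed [IsFinite t] [LocallyOfFinitePresentation t] (η : U) (hη : ∀ x : U, x ⤳ η → x = η) :
    ∃ Ω : U.Opens, η ∈ Ω ∧ FlatRed t Ω := by
  classical
  obtain ⟨V, hV, hηV, -⟩ := exists_isAffineOpen_mem_and_subset (X := U) (x := η) (U := ⊤) trivial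
  letI := (t.app V).hom.toAlgebra
  haveI : Module.Finite Γ(U, V) Γ(R, t ⁻¹ᵁ V) := RingHom.finite_algebraMap.1 (t.finite_app V hV)
  haveI : Algebra.FinitePresentation Γ(U, V) Γ(R, t ⁻¹ᵁ V) := by
    have h := HasRingHomProperty.appLE (P := @LocallyOfFinitePresentation) t ‹_› ⟨V, hV⟩
      ⟨_, hV.preimage t⟩ le_rfl
    rw [← Scheme.Hom.app_eq_appLE] at h
    exact h
  let A := Γ(U, V)
  let N := nilradical A
  haveI : IsReduced (A ⧸ N) := (Ideal.isRadical_iff_quotient_reduced N).1 (Ideal.radical_isRadical _)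
  haveI : Module.FinitePresentation A Γ(R, t ⁻¹ᵁ V) :=
    Module.FinitePresentation.of_finite_of_finitePresentation _ _
  set M := (A ⧸ N) ⊗[A] Γ(R, t ⁻¹ᵁ V) with hM
  set θ := PrimeSpectrum.comap (Ideal.Quotient.mk N) with hθ
  have hθb : Function.Bijective θ := PrimeSpectrum.comap_quotientMk_bijective_of_le_nilradical le_rfl
  let p := hV.primeIdealOf ⟨η, hηV⟩
  obtain ⟨p', hp'⟩ := hθb.2 p
  have hpmin : ∀ q : PrimeSpectrum A, q.asIdeal ≤ p.asIdeal → q = p := fun q hq => by
    have hs : hV.fromSpec q ⤳ η := by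
      have := ((PrimeSpectrum.le_iff_specializes q p).1 hq).map hV.fromSpec.continuous
      rwa [hV.fromSpec_primeIdealOf] at this
    exact hV.fromSpec.isOpenEmbedding.injective ((hη _ hs).trans (hV.fromSpec_primeIdealOf ⟨η, hηV⟩).symm)
  have hfree : p' ∈ Module.freeLocus (A ⧸ N) M := by
    rw [Module.mem_freeLocus]
    have hmin : p'.asIdeal ∈ minimalPrimes (A ⧸ N) := by
      refine ⟨⟨p'.isPrime, bot_le⟩, fun q hq hle => ?_⟩
      have hle' : (θ ⟨q, hq.1⟩).asIdeal ≤ (θ p').asIdeal := Ideal.comap_mono hle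
      have hE := hpmin _ (hp' ▸ hle')
      exact (congrArg PrimeSpectrum.asIdeal (hθb.1 (hp'.trans hE.symm))).le
    haveI : Ring.KrullDimLE 0 (Localization.AtPrime p'.asIdeal) := .of_isLocalization _ hmin _
    letI : Field (Localization.AtPrime p'.asIdeal) := Ring.KrullDimLE.isField_of_isReduced.toField
    exact Module.Free.of_divisionRing _ _
  obtain ⟨_, ⟨g', rfl⟩, hpg, hgfree⟩ :=
    PrimeSpectrum.isTopologicalBasis_basic_opens.exists_subset_of_mem_open hfree Module.isOpen_freeLocus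
  obtain ⟨g, rfl⟩ := Ideal.Quotient.mk_surjective g'
  let A' := Localization.Away (Ideal.Quotient.mk N g)
  haveI : IsScalarTower A (A ⧸ N) A' := inferInstance
  haveI hproj : Module.Projective A' (A' ⊗[A] Γ(R, t ⁻¹ᵁ V)) := by
    rw [← Module.freeLocus_eq_univ_iff,
      ← Module.freeLocus_congr (AlgebraTensorModule.cancelBaseChange A (A ⧸ N) A' A' Γ(R, t ⁻¹ᵁ V)),
      Set.eq_univ_iff_forall]
    intro P
    refine Module.comap_freeLocus_le (hgfree ?_)
    exact fun hg => P.isPrime.ne_top (Ideal.eq_top_of_isUnit_mem _ hg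
      (IsLocalization.Away.algebraMap_isUnit (Ideal.Quotient.mk N g)))
  haveI : Module.Flat A' (A' ⊗[A] Γ(R, t ⁻¹ᵁ V)) := Module.Flat.of_projective
  have hΩ : η ∈ U.basicOpen g := by
    have h1 : p ∈ hV.fromSpec ⁻¹ᵁ U.basicOpen g := by
      rw [hV.fromSpec_preimage_basicOpen, ← hp']
      exact hpg
    have h2 : hV.fromSpec p ∈ U.basicOpen g := h1
    rwa [hV.fromSpec_primeIdealOf] at h2
  refine ⟨U.basicOpen g, hΩ, fun T _ m hm => ?_⟩
  have hran : Set.range m ⊆ Set.range hV.fromSpec := by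
    rintro _ ⟨z, rfl⟩
    rw [hV.range_fromSpec]
    exact U.basicOpen_le g (hm z)
  let m' : T ⟶ Spec Γ(U, V) := IsOpenImmersion.lift hV.fromSpec m hran
  have hm' : m' ≫ hV.fromSpec = m := IsOpenImmersion.lift_fac _ _ _
  let φ : Γ(U, V) ⟶ Γ(T, ⊤) := (Scheme.ΓSpecIso _).inv ≫ m'.appTop
  have hφ : m' = T.toSpecΓ ≫ Spec.map φ := by
    rw [Spec.map_comp, ← Scheme.toSpecΓ_naturality_assoc, ← SpecMap_ΓSpecIso_hom, ← Spec.map_comp,
      Iso.inv_hom_id, Spec.map_id, Category.comp_id]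
  let ᾱ : A ⧸ N →+* Γ(T, ⊤) := Ideal.Quotient.lift N φ.hom fun a ha =>
    ((mem_nilradical.1 ha).map φ.hom).eq_zero
  have hu : IsUnit (ᾱ (Ideal.Quotient.mk N g)) := by
    show IsUnit (φ.hom g)
    refine T.toRingedSpace.isUnit_of_isUnit_germ ⊤ _ fun z hz => ?_
    have h1 : m' z ∈ (PrimeSpectrum.basicOpen g : (Spec Γ(U, V)).Opens) := by
      rw [← hV.fromSpec_preimage_basicOpen, Scheme.Hom.mem_preimage, ← Scheme.Hom.comp_apply, hm']
      exact hm z
    rw [hφ, Scheme.Hom.comp_apply] at h1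
    have h2 : z ∈ T.toSpecΓ ⁻¹ᵁ PrimeSpectrum.basicOpen (φ.hom g) := h1
    rw [Scheme.toSpecΓ_preimage_basicOpen, Scheme.mem_basicOpen _ _ z (show z ∈ (⊤ : T.Opens) from trivial)] at h2
    exact h2
  let ρ : A' →+* Γ(T, ⊤) := IsLocalization.Away.lift (Ideal.Quotient.mk N g) hu
  have hρ : ρ.comp (algebraMap A A') = φ.hom := RingHom.ext fun a =>
    IsLocalization.Away.lift_eq _ hu (Ideal.Quotient.mk N a)
  let ρ' : T ⟶ Spec (CommRingCat.of A') := T.toSpecΓ ≫ Spec.map (CommRingCat.ofHom ρ)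
  have hfac : ρ' ≫ Spec.map (CommRingCat.ofHom (algebraMap A A')) ≫ hV.fromSpec = m := by
    rw [← Category.assoc]
    refine Eq.trans ?_ hm'
    congr 1
    rw [hφ, Category.assoc, ← Spec.map_comp]
    congr 2
    exact CommRingCat.hom_ext hρ
  have sq := isPullback_tensor t hV A'
  haveI hflat : Flat (Spec.map (CommRingCat.ofHom (algebraMap A' (A' ⊗[A] Γ(R, t ⁻¹ᵁ V))))) :=
    (HasRingHomProperty.Spec_iff (P := @Flat)).2 (RingHom.flat_algebraMap_iff.2 ‹_›)
  have sq2 := (IsPullback.of_hasPullback ρ'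
    (Spec.map (CommRingCat.ofHom (algebraMap A' (A' ⊗[A] Γ(R, t ⁻¹ᵁ V)))))).flip.paste_horiz sq.flip
  rw [← hfac, ← sq2.flip.isoPullback_inv_fst]
  infer_instance

end Groth.Agent.GrpdDimOne19
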