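import Groth.Agent.Lib.GrpdDimOne19.GenDown
import Groth.Agent.Lib.GrpdDimOne19.FlatRed
import Groth.Agent.Lib.GrpQuot.Invariant
import Groth.Agent.Lib.ChevAff4.Main

/-!
# Affineness of an invariant open through norms on an integral cover
-/

set_option autoImplicit false
set_option linter.style.haveILetI false
set_option backward.isDefEq.respectTransparency false
universe u

open CategoryTheory CategoryTheory.Limits AlgebraicGeometry TopologicalSpace TensorProduct

namespace Groth.Agent.GrpdDimOne19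

open Groth.Agent.GrpQuot

variable {R U : Scheme.{u}} (s t : R ⟶ U) [IsFinite t]

theorem mem_primeIdealOf_iff {X : Scheme.{u}} {V : X.Opens} (hV : IsAffineOpen V) (f : Γ(X, V))
    (w : PrimeSpectrum Γ(X, V)) : f ∈ w.asIdeal ↔ hV.fromSpec w ∉ X.basicOpen f := by
  rw [← Scheme.Hom.mem_preimage, hV.fromSpec_preimage_basicOpen]
  show _ ↔ w ∉ PrimeSpectrum.basicOpen f
  rw [PrimeSpectrum.mem_basicOpen, not_not]

/-- An open of an affine open `X` cut out by the finite correspondence is affine. -/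
theorem isAffineOpen_of_flatRed [IsLocallyNoetherian U] {X W : U.Opens} (hX : IsAffineOpen X) (hWX : W ≤ X)
    (hW : ∀ x ∈ X, (x ∈ W ↔ ∀ r : R, t r = x → s r ∈ X))
    (b : Γ(R, t ⁻¹ᵁ X)) (hb : ∀ r ∈ t ⁻¹ᵁ X, (r ∈ R.basicOpen b ↔ s r ∈ X))
    (hflat : ∀ r : R, t r ∈ X → s r ∉ X → ∃ Ω : U.Opens, t r ∈ Ω ∧ FlatRed t Ω) :
    IsAffineOpen W := by
  classical
  letI := (t.app X).hom.toAlgebra
  haveI : Module.Finite Γ(U, X) Γ(R, t ⁻¹ᵁ X) := RingHom.finite_algebraMap.1 (t.finite_app X hX)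
  haveI : IsNoetherianRing Γ(U, X) := IsLocallyNoetherian.component_noetherian ⟨X, hX⟩
  haveI : IsAffine X.toScheme := hX
  set hB := hX.preimage t
  let A := Γ(U, X)
  let ι := {η : Ideal A // η ∈ minimalPrimes A}
  haveI : Finite ι := (minimalPrimes.finite_of_isNoetherianRing A).to_subtype
  haveI : ∀ η : ι, η.1.IsPrime := fun η => η.2.1.1
  let K : ι → Type u := fun η => AlgebraicClosure (FractionRing (A ⧸ η.1))
  let B : ι → Type u := fun η => integralClosure A (K η)
  let F : Π η, B η := fun η => prodVal (K η) b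
  haveI : Algebra.IsIntegral A (Π η, B η) := by
    refine ⟨fun x => ?_⟩
    haveI := Fintype.ofFinite ι
    choose P hP hP0 using fun η => Algebra.IsIntegral.isIntegral (R := A) (x η)
    refine ⟨∏ η, P η, Polynomial.monic_prod_of_monic _ _ fun η _ => hP η, ?_⟩
    rw [← Polynomial.aeval_def]
    funext η
    rw [← Pi.evalAlgHom_apply A B η (Polynomial.aeval x (∏ η, P η)), ← Polynomial.aeval_algHom_apply,
      map_prod]
    exact Finset.prod_eq_zero (Finset.mem_univ η) (hP0 η)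
  let m : ∀ η, Spec (CommRingCat.of (B η)) ⟶ U := fun η =>
    Spec.map (CommRingCat.ofHom (algebraMap A (B η))) ≫ hX.fromSpec
  have hran : ∀ η q, m η q ∈ X := fun η q => hX.range_fromSpec.subset ⟨_, rfl⟩
  have hkey : ∀ η (q : PrimeSpectrum (B η)), m η q ∈ W ↔ F η ∉ q.asIdeal := by
    intro η q
    rw [hW _ (hran η q)]
    constructor
    · intro hall hF
      obtain ⟨r, hr, hre, hbr⟩ := exists_mem_of_prodVal_mem (K η) b q.asIdeal hF
      have hrX : hB.fromSpec ⟨r, hr⟩ ∈ t ⁻¹ᵁ X := hB.range_fromSpec.subset ⟨_, rfl⟩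
      have htr : t (hB.fromSpec ⟨r, hr⟩) = m η q := by
        rw [← Scheme.Hom.comp_apply, ← IsAffineOpen.SpecMap_appLE_fromSpec t hX hB le_rfl, Scheme.Hom.comp_apply,
          Scheme.Hom.comp_apply]
        refine congrArg hX.fromSpec (PrimeSpectrum.ext ?_)
        rw [← Scheme.Hom.app_eq_appLE]
        exact hre
      exact (mem_primeIdealOf_iff hB b _).1 hbr ((hb _ hrX).2 (hall _ htr))
    · intro hF r hr
      by_contra hsr
      obtain ⟨Ω, hxΩ, hΩ⟩ := hflat r (hr.symm ▸ hran η q) hsr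
      have sq := isPullback_tensor t hX (B η)
      set fstC := Spec.map (CommRingCat.ofHom (algebraMap (B η) (B η ⊗[A] Γ(R, t ⁻¹ᵁ X))))
      let T' : (Spec (CommRingCat.of (B η))).Opens := m η ⁻¹ᵁ Ω
      haveI : Flat (pullback.fst (T'.ι ≫ m η) t) := hΩ _ _ fun z => z.2
      have h1 := (isPullback_morphismRestrict fstC T').paste_vert sq
      haveI : Flat (fstC ∣_ T') := by
        rw [← h1.isoPullback_hom_fst]
        infer_instance
      obtain ⟨z, hz1, hz2⟩ := Scheme.exists_preimage_of_isPullback sq q r hr.symm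
      have hqT : q ∈ T' := show m η q ∈ Ω from hr ▸ hxΩ
      have hgen : (⟨⊥, Ideal.isPrime_bot⟩ : PrimeSpectrum (B η)) ⤳ q :=
        (PrimeSpectrum.le_iff_specializes _ q).1 bot_le
      have hzT : z ∈ fstC ⁻¹ᵁ T' := by
        show fstC z ∈ T'
        rw [hz1]; exact hqT
      have hcoe : ((fstC ∣_ T') ⟨z, hzT⟩).1 = q := (morphismRestrict_base_coe fstC T' _).trans hz1
      obtain ⟨z₀, hz₀, hz₀'⟩ := Flat.generalizingMap (fstC ∣_ T')
        (show (⟨_, hgen.mem_open T'.2 hqT⟩ : T'.toScheme) ⤳ (fstC ∣_ T') ⟨z, hzT⟩ from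
          (subtype_specializes_iff _ _).2 (hcoe.symm ▸ hgen))
      have hle : z₀.1.asIdeal ≤ z.asIdeal :=
        (PrimeSpectrum.le_iff_specializes z₀.1 z).2 ((subtype_specializes_iff _ _).1 hz₀)
      have hbot : fstC z₀.1 = (⟨⊥, Ideal.isPrime_bot⟩ : PrimeSpectrum (B η)) :=
        (morphismRestrict_base_coe fstC T' z₀).symm.trans (congrArg Subtype.val hz₀')
      refine hF (prodVal_mem (K η) b q.asIdeal z.asIdeal z₀.1.asIdeal hle
        (congrArg PrimeSpectrum.asIdeal hbot) (congrArg PrimeSpectrum.asIdeal hz1) ?_)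
      let z' : PrimeSpectrum Γ(R, t ⁻¹ᵁ X) := z.comap
        (Algebra.TensorProduct.includeRight (R := A) (A := B η) (B := Γ(R, t ⁻¹ᵁ X))).toRingHom
      have hz' : hB.fromSpec z' = r := by
        rw [← hz2, Scheme.Hom.comp_apply]
        rfl
      refine (mem_primeIdealOf_iff hB b z').2 ?_
      rw [hz', hb r (show t r ∈ X from hr.symm ▸ hran η q)]
      exact hsr
  -- the cover
  let π : Spec (CommRingCat.of (Π η, B η)) ⟶ X.toScheme :=
    Spec.map (CommRingCat.ofHom (algebraMap A (Π η, B η))) ≫ hX.isoSpec.inv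
  haveI : IsIntegralHom (Spec.map (CommRingCat.ofHom (algebraMap A (Π η, B η)))) :=
    IsIntegralHom.SpecMap_iff.2 (show (algebraMap A (Π η, B η)).IsIntegral from Algebra.IsIntegral.isIntegral)
  haveI : IsIntegralHom π := inferInstanceAs (IsIntegralHom (_ ≫ _))
  have hπι : π ≫ X.ι = Spec.map (CommRingCat.ofHom (algebraMap A (Π η, B η))) ≫ hX.fromSpec := by
    rw [Category.assoc]
    rfl
  have hπ : ∀ η (q : PrimeSpectrum (B η)), X.ι (π (q.comap (Pi.evalRingHom B η))) = m η q := fun η q => by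
    rw [← Scheme.Hom.comp_apply, hπι, Scheme.Hom.comp_apply, Scheme.Hom.comp_apply]
    rfl
  let W' : X.toScheme.Opens := X.ι ⁻¹ᵁ W
  have hpre : π ⁻¹ᵁ W' = PrimeSpectrum.basicOpen F := by
    refine Opens.ext (Set.ext fun w => ?_)
    obtain ⟨⟨η, q⟩, rfl⟩ := (PrimeSpectrum.sigmaToPi_bijective B).surjective w
    show X.ι (π (q.comap (Pi.evalRingHom B η))) ∈ W ↔ _
    rw [hπ, hkey]
    rfl
  haveI : IsAffine (π ⁻¹ᵁ W').toScheme := by
    rw [hpre]
    exact IsAffineOpen.Spec_basicOpen (R := CommRingCat.of (Π η, B η)) F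
  haveI : Surjective (π ∣_ W') := ⟨fun x => by
    let p := hX.primeIdealOf x.1
    obtain ⟨η, hη, hηp⟩ := Ideal.exists_minimalPrimes_le (show (⊥ : Ideal A) ≤ p.asIdeal from bot_le)
    haveI : η.IsPrime := hη.1.1
    have hker : RingHom.ker (algebraMap A (B ⟨η, hη⟩)) ≤ p.asIdeal := by
      intro a ha
      refine hηp ?_
      rw [RingHom.mem_ker] at ha
      have h1 : algebraMap A (K ⟨η, hη⟩) a = 0 := congrArg Subtype.val ha
      rw [IsScalarTower.algebraMap_apply A (FractionRing (A ⧸ η)) (K ⟨η, hη⟩),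
        map_eq_zero_iff _ (algebraMap (FractionRing (A ⧸ η)) (K ⟨η, hη⟩)).injective,
        IsScalarTower.algebraMap_apply A (A ⧸ η) (FractionRing (A ⧸ η)),
        map_eq_zero_iff _ (IsFractionRing.injective (A ⧸ η) (FractionRing (A ⧸ η)))] at h1
      exact Ideal.Quotient.eq_zero_iff_mem.1 h1
    obtain ⟨Q, -, hQ, hQp⟩ := Ideal.exists_ideal_over_prime_of_isIntegral p.asIdeal
      (⊥ : Ideal (B ⟨η, hη⟩)) (by exact hker)
    let w : Spec (CommRingCat.of (Π η, B η)) := PrimeSpectrum.comap (Pi.evalRingHom B ⟨η, hη⟩) ⟨Q, hQ⟩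
    have hm : m ⟨η, hη⟩ ⟨Q, hQ⟩ = X.ι x.1 := by
      refine Eq.trans ?_ (hX.fromSpec_primeIdealOf x.1)
      exact congrArg hX.fromSpec (PrimeSpectrum.ext hQp)
    have hw : π w = x.1 := X.ι.isOpenEmbedding.injective ((hπ ⟨η, hη⟩ ⟨Q, hQ⟩).trans hm)
    exact ⟨⟨w, show π w ∈ W' from hw ▸ x.2⟩, Subtype.ext ((morphismRestrict_base_coe π W' _).trans hw)⟩⟩
  haveI : IsIntegralHom (π ∣_ W') := IsZariskiLocalAtTarget.restrict ‹IsIntegralHom π› W'
  have hW' : IsAffineOpen W' := ChevAff4.isAffine_of_surjective (π ∣_ W')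
  have h := hW'.image_of_isOpenImmersion X.ι
  rwa [Scheme.Hom.image_preimage_eq_opensRange_inf, Scheme.Opens.opensRange_ι, inf_eq_right.2 hWX] at h

end Groth.Agent.GrpdDimOne19
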