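import Mathlib

/-!
# Products over all embeddings of a finite algebra
-/

set_option autoImplicit false
set_option linter.style.haveILetI false
universe u

open TensorProduct

namespace Groth.Agent.GrpdDimOne19

variable {A B' : Type u} [CommRing A] [CommRing B'] [Algebra A B'] [Module.Finite A B']
  (K : Type u) [Field K] [Algebra A K]

/-- An element of the integral closure of `A` in a field coming from a finite algebra. -/
noncomputable def val (φ : B' →ₐ[A] K) : B' →ₐ[A] integralClosure A K :=
  φ.codRestrict (integralClosure A K) fun b => (Algebra.IsIntegral.isIntegral (R := A) b).map φ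

theorem coe_val (φ : B' →ₐ[A] K) (b : B') : (val K φ b : K) = φ b := rfl

/-- The product of the values of `b` under all embeddings. -/
noncomputable def prodVal (b : B') : integralClosure A K :=
  letI := Fintype.ofFinite (B' →ₐ[A] K)
  ∏ φ : B' →ₐ[A] K, val K φ b

/-- Where the product vanishes, `b` vanishes at some point of the fibre. -/
theorem exists_mem_of_prodVal_mem (b : B') (q : Ideal (integralClosure A K)) [q.IsPrime]
    (h : prodVal K b ∈ q) :
    ∃ r : Ideal B', r.IsPrime ∧ r.comap (algebraMap A B') = q.comap (algebraMap A _) ∧ b ∈ r := by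
  letI := Fintype.ofFinite (B' →ₐ[A] K)
  obtain ⟨φ, -, hφ⟩ := (Ideal.IsPrime.prod_mem_iff (p := q)).1 h
  exact ⟨q.comap (val K φ).toRingHom, inferInstance,
    by rw [Ideal.comap_comap, AlgHom.toRingHom_eq_coe, AlgHom.comp_algebraMap], hφ⟩

/-- A point of the fibre where `b` vanishes and which generalises to the generic fibre kills the product. -/
theorem prodVal_mem [IsAlgClosed K] (b : B') (q : Ideal (integralClosure A K)) [q.IsPrime]
    (P P₀ : Ideal (integralClosure A K ⊗[A] B')) [P.IsPrime] [P₀.IsPrime] (hle : P₀ ≤ P)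
    (hP₀ : P₀.comap (algebraMap (integralClosure A K) _) = ⊥)
    (hq : P.comap (algebraMap (integralClosure A K) _) = q)
    (hb : (1 : integralClosure A K) ⊗ₜ[A] b ∈ P) : prodVal K b ∈ q := by
  letI := Fintype.ofFinite (B' →ₐ[A] K)
  let B := integralClosure A K
  let C := B ⊗[A] B'
  haveI : Module.Finite B C := Module.Finite.base_change A B B'
  haveI : FaithfulSMul B (C ⧸ P₀) := by
    refine (faithfulSMul_iff_algebraMap_injective B (C ⧸ P₀)).2 ?_
    rw [injective_iff_map_eq_zero]
    intro a ha
    have h1 : algebraMap B C a ∈ P₀ := Ideal.Quotient.eq_zero_iff_mem.1 ha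
    exact (Submodule.mem_bot B).1 (hP₀.le h1)
  haveI : Algebra.IsIntegral B (C ⧸ P₀) := Algebra.IsIntegral.of_finite B _
  haveI : Algebra.IsAlgebraic B (C ⧸ P₀) := Algebra.IsIntegral.isAlgebraic
  let ψ : (C ⧸ P₀) →ₐ[B] K := IsAlgClosed.lift (R := B) (S := C ⧸ P₀) (M := K)
  have hψ : Function.Injective ψ := by
    rw [injective_iff_map_eq_zero]
    intro x hx
    have hker : RingHom.ker ψ.toRingHom = ⊥ := by
      haveI : (RingHom.ker ψ.toRingHom).IsPrime := RingHom.ker_isPrime _
      refine Ideal.eq_bot_of_comap_eq_bot (R := B) (S := C ⧸ P₀) ?_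
      rw [eq_bot_iff]
      intro a ha
      have : algebraMap B K a = 0 := (ψ.commutes a).symm.trans ha
      exact (Submodule.mem_bot B).2 (Subtype.ext this)
    exact (Submodule.mem_bot _).1 (hker.le hx)
  let φ : B' →ₐ[A] K :=
    ((ψ.comp (Ideal.Quotient.mkₐ B P₀)).restrictScalars A).comp Algebra.TensorProduct.includeRight
  have hφ : (val K φ b) ⊗ₜ[A] (1 : B') - (1 : B) ⊗ₜ[A] b ∈ P₀ := by
    rw [← Ideal.Quotient.eq_zero_iff_mem]
    apply hψ
    rw [map_zero, map_sub, map_sub, sub_eq_zero]
    exact (ψ.commutes (val K φ b)).trans rfl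
  have h2 : algebraMap B C (val K φ b) ∈ P := by
    have h3 := P.add_mem (hle hφ) hb
    rwa [sub_add_cancel] at h3
  have h4 : val K φ b ∈ q := hq ▸ h2
  exact q.mem_of_dvd (Finset.dvd_prod_of_mem (fun φ => val K φ b) (Finset.mem_univ φ)) h4

end Groth.Agent.GrpdDimOne19
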