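import Groth.Agent.Lib.GrpdInv19.Basic

/-!
# Invariant basic opens on a closed invariant subset, around its generic points
-/

set_option autoImplicit false
set_option linter.style.haveILetI false
set_option backward.isDefEq.respectTransparency.types false
universe u

open CategoryTheory CategoryTheory.Limits AlgebraicGeometry TopologicalSpace

namespace Groth.Agent.GrpdDimOne19

open Groth.Agent.GrpdB Groth.Agent.GrpQuot

variable {S : Scheme.{u}} {G : Grpd.GroupoidScheme S} [IsFinite G.s] [IsFinite G.t]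

theorem eq_of_specializes_of_s_eq {r r' : G.R} (h : r ⤳ r') (e : G.s r = G.s r') : r = r' := by
  have hd := (G.s.isDiscrete_preimage_singleton (G.s r')).1
  let a : ↥(⇑G.s ⁻¹' {G.s r'}) := ⟨r, e⟩
  let b : ↥(⇑G.s ⁻¹' {G.s r'}) := ⟨r', rfl⟩
  have h' : a ⤳ b := subtype_specializes_iff a b |>.2 h
  exact congrArg Subtype.val h'.eq

/-- An orbit has no specialisations inside itself. -/
theorem eq_of_specializes_orbit {P : Set G.U} (hP : P.Finite) (hinv : ∀ r : G.R, G.t r ∈ P → G.s r ∈ P)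
    (htr : ∀ y ∈ P, ∀ x ∈ P, ∃ r : G.R, G.t r = y ∧ G.s r = x) {y z : G.U} (hy : y ∈ P) (hz : z ∈ P)
    (hzy : z ⤳ y) : z = y := by
  obtain ⟨a, ha, hamin⟩ := hP.exists_minimalFor (fun a : G.U => closure ({a} : Set G.U)) P ⟨y, hy⟩
  obtain ⟨r, hrt, hrs⟩ := htr z hz a ha
  obtain ⟨r', hrr', hr't⟩ := G.t.isClosedMap.specializingMap (show G.t r ⤳ y from hrt ▸ hzy)
  have ha' : G.s r' ∈ P := hinv r' (hr't ▸ hy)
  have hs : a ⤳ G.s r' := hrs ▸ hrr'.map G.s.continuous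
  have hle : closure ({G.s r'} : Set G.U) ⊆ closure {a} := specializes_iff_closure_subset.1 hs
  have hs' : G.s r' ⤳ a := specializes_iff_closure_subset.2 (hamin ha' hle)
  have e : G.s r = G.s r' := hrs.trans (hs.antisymm hs').eq
  rw [← hrt, ← hr't, eq_of_specializes_of_s_eq hrr' e]

/-- Near generic points of a closed invariant subset there is an invariant basic open of the subset. -/
theorem exists_invariant_on [IsLocallyNoetherian G.U] {W₀ : G.U.Opens} (hW₀ : IsAffineOpen W₀) (U' : G.U.Opens)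
    (hU'W : U' ≤ W₀) (hU' : G.s ⁻¹ᵁ U' = G.t ⁻¹ᵁ U') (Eo : G.U.Opens) (hEo : G.s ⁻¹ᵁ Eo = G.t ⁻¹ᵁ Eo)
    {P : Set G.U} (hP : P.Finite) (hPU : P ⊆ U') (hPE : ∀ y ∈ P, y ∉ Eo)
    (hmax : ∀ y ∈ P, ∀ z ∈ U', z ∉ Eo → z ⤳ y → z = y) (hPinv : ∀ r : G.R, G.t r ∈ P → G.s r ∈ P) :
    ∃ f : Γ(G.U, W₀), G.U.basicOpen f ≤ U' ∧ P ⊆ G.U.basicOpen f ∧
      ∀ r : G.R, G.t r ∉ Eo → G.t r ∈ G.U.basicOpen f → G.s r ∈ G.U.basicOpen f := by
  classical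
  obtain ⟨g₁, hg₁U, hg₁P⟩ := exists_basicOpen_mem_finite hW₀ hP U' hU'W hPU
  set V₁ := G.U.basicOpen g₁ with hV₁def
  have hV₁ : IsAffineOpen V₁ := hW₀.basicOpen g₁
  have hB₁ : IsAffineOpen (G.t ⁻¹ᵁ V₁) := hV₁.preimage G.t
  letI := (G.t.app V₁).hom.toAlgebra
  haveI : Module.Finite Γ(G.U, V₁) Γ(G.R, G.t ⁻¹ᵁ V₁) :=
    RingHom.finite_algebraMap.1 (G.t.finite_app V₁ hV₁)
  haveI : IsNoetherianRing Γ(G.U, V₁) := IsLocallyNoetherian.component_noetherian ⟨V₁, hV₁⟩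
  obtain ⟨J, hJ⟩ := (PrimeSpectrum.isClosed_iff_zeroLocus_ideal _).1
    (show IsClosed ((hV₁.fromSpec ⁻¹' (Eo : Set G.U))ᶜ : Set (PrimeSpectrum Γ(G.U, V₁))) from
      ((Eo.2.preimage hV₁.fromSpec.continuous)).isClosed_compl)
  let pr : ∀ (x : G.U), x ∈ V₁ → PrimeSpectrum Γ(G.U, V₁) := fun x hx => hV₁.primeIdealOf ⟨x, hx⟩
  have hJmem : ∀ (x : G.U) (hx : x ∈ V₁), x ∉ Eo ↔ J ≤ (pr x hx).asIdeal := by
    intro x hx
    have h := Set.ext_iff.1 hJ (pr x hx)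
    rw [Set.mem_compl_iff, Set.mem_preimage, hV₁.fromSpec_primeIdealOf ⟨x, hx⟩, PrimeSpectrum.mem_zeroLocus] at h
    exact ⟨fun h1 => h.1 h1, fun h1 => h.2 h1⟩
  let JB := J.map (algebraMap Γ(G.U, V₁) Γ(G.R, G.t ⁻¹ᵁ V₁))
  haveI : Module.Finite (Γ(G.U, V₁) ⧸ J) (Γ(G.R, G.t ⁻¹ᵁ V₁) ⧸ JB) :=
    Module.Finite.of_restrictScalars_finite Γ(G.U, V₁) _ _
  haveI : Algebra.FinitePresentation (Γ(G.U, V₁) ⧸ J) (Γ(G.R, G.t ⁻¹ᵁ V₁) ⧸ JB) :=
    Algebra.FinitePresentation.of_finiteType.1 inferInstance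
  obtain ⟨O, hOmin, hOnorm⟩ := GrpdInv19.exists_norm_open (A := Γ(G.U, V₁) ⧸ J) (B := Γ(G.R, G.t ⁻¹ᵁ V₁) ⧸ JB)
  set θ := PrimeSpectrum.comap (Ideal.Quotient.mk J) with hθ
  have hθc : Topology.IsClosedEmbedding θ :=
    PrimeSpectrum.isClosedEmbedding_comap_of_surjective _ _ Ideal.Quotient.mk_surjective
  have hlift : ∀ p : PrimeSpectrum Γ(G.U, V₁), J ≤ p.asIdeal → ∃ p', θ p' = p := fun p hp => by
    have hr := range_comap_of_surjective (S := Γ(G.U, V₁) ⧸ J) _ Ideal.Quotient.mk_surjective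
    rw [Ideal.mk_ker] at hr
    exact hr.symm.subset hp
  let Ω : G.U.Opens := hV₁.fromSpec ''ᵁ ⟨(θ '' (O : Set _)ᶜ)ᶜ, (hθc.isClosedMap _ O.2.isClosed_compl).isOpen_compl⟩
  have hΩV : Ω ≤ V₁ := (Scheme.Hom.image_le_opensRange _ _).trans (le_of_eq hV₁.opensRange_fromSpec)
  have hΩ : ∀ (x : G.U) (hx : x ∈ V₁) (p' : PrimeSpectrum (Γ(G.U, V₁) ⧸ J)), θ p' = pr x hx → (x ∈ Ω ↔ p' ∈ O) := by
    intro x hx p' hp'
    constructor
    · rintro ⟨w, hw, hwx⟩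
      by_contra hn
      refine hw ⟨p', hn, hp'.trans ?_⟩
      exact (hV₁.fromSpec.isOpenEmbedding.injective (hwx.trans (hV₁.fromSpec_primeIdealOf ⟨x, hx⟩).symm)).symm
    · intro h
      refine ⟨pr x hx, ?_, hV₁.fromSpec_primeIdealOf _⟩
      rintro ⟨p'', hp'', e⟩
      exact hp'' (hθc.injective (e.trans hp'.symm) ▸ h)
  have hPΩ : P ⊆ Ω := by
    intro y hy
    have hyV : y ∈ V₁ := hg₁P hy
    obtain ⟨p', hp'⟩ := hlift _ ((hJmem y hyV).1 (hPE y hy))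
    rw [SetLike.mem_coe, hΩ y hyV p' hp']
    refine hOmin p' ⟨⟨p'.isPrime, bot_le⟩, fun q hq hle => ?_⟩
    have hle' : (θ ⟨q, hq.1⟩).asIdeal ≤ (pr y hyV).asIdeal := hp' ▸ Ideal.comap_mono hle
    have hs : hV₁.fromSpec (θ ⟨q, hq.1⟩) ⤳ y := by
      have := ((PrimeSpectrum.le_iff_specializes _ (pr y hyV)).1 hle').map hV₁.fromSpec.continuous
      rwa [hV₁.fromSpec_primeIdealOf] at this
    have hzV : hV₁.fromSpec (θ ⟨q, hq.1⟩) ∈ V₁ := hV₁.range_fromSpec.subset ⟨_, rfl⟩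
    have hzE : hV₁.fromSpec (θ ⟨q, hq.1⟩) ∉ Eo := by
      refine (Set.ext_iff.1 hJ (θ ⟨q, hq.1⟩)).2 ?_
      rw [PrimeSpectrum.mem_zeroLocus]
      intro a ha
      show Ideal.Quotient.mk J a ∈ q
      rw [Ideal.Quotient.eq_zero_iff_mem.2 ha]
      exact q.zero_mem
    have hE := hmax y hy _ (hg₁U hzV) hzE hs
    have e : θ ⟨q, hq.1⟩ = θ p' := (hV₁.fromSpec.isOpenEmbedding.injective
      (hE.trans (hV₁.fromSpec_primeIdealOf ⟨y, hyV⟩).symm)).trans hp'.symm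
    exact (congrArg PrimeSpectrum.asIdeal (hθc.injective e)).ge
  obtain ⟨g, hgΩ, hgP⟩ := exists_basicOpen_mem_finite hW₀ hP Ω (hΩV.trans (G.U.basicOpen_le g₁)) hPΩ
  have hV₁W : V₁ ≤ W₀ := G.U.basicOpen_le g₁
  have htle : G.t ⁻¹ᵁ V₁ ≤ G.s ⁻¹ᵁ W₀ := by
    intro r hr
    have h1 : r ∈ G.t ⁻¹ᵁ U' := hg₁U hr
    rw [← hU'] at h1
    exact hU'W h1
  let gV : Γ(G.U, V₁) := G.U.presheaf.map (homOfLE hV₁W).op g
  let b : Γ(G.R, G.t ⁻¹ᵁ V₁) := G.s.appLE W₀ _ htle g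
  have hb : G.R.basicOpen b = G.t ⁻¹ᵁ V₁ ⊓ G.s ⁻¹ᵁ G.U.basicOpen g := by
    rw [show b = G.R.presheaf.map (homOfLE htle).op (G.s.app W₀ g) from rfl]
    refine (Scheme.basicOpen_res _ _ _).trans ?_
    rw [← Scheme.preimage_basicOpen]
  have hbasic : ∀ {Z : Scheme.{u}} {V : Z.Opens} (hV : IsAffineOpen V) (f : Γ(Z, V)) (z : Z) (hz : z ∈ V),
      z ∈ Z.basicOpen f ↔ f ∉ (hV.primeIdealOf ⟨z, hz⟩).asIdeal := by
    intro Z V hV f z hz
    rw [← PrimeSpectrum.mem_basicOpen, ← hV.fromSpec_preimage_basicOpen]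
    show _ ↔ hV.fromSpec _ ∈ Z.basicOpen f
    rw [hV.fromSpec_primeIdealOf]
  have hgV : ∀ x ∈ V₁, (x ∈ G.U.basicOpen gV ↔ x ∈ G.U.basicOpen g) := fun x hx => by
    rw [show G.U.basicOpen gV = V₁ ⊓ G.U.basicOpen g from Scheme.basicOpen_res _ _ _]
    exact ⟨fun h => h.2, fun h => ⟨hx, h⟩⟩
  have hgO : PrimeSpectrum.basicOpen (Ideal.Quotient.mk J gV) ≤ O := by
    intro p' hp'
    have hx : hV₁.fromSpec (θ p') ∈ V₁ := hV₁.range_fromSpec.subset ⟨_, rfl⟩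
    have he : pr _ hx = θ p' := hV₁.fromSpec.isOpenEmbedding.injective (hV₁.fromSpec_primeIdealOf _)
    refine (hΩ _ hx p' he.symm).1 (hgΩ ((hgV _ hx).1 ?_))
    rw [hbasic hV₁ gV _ hx]
    intro h
    have h1 : gV ∈ (θ p').asIdeal := he ▸ h
    exact hp' h1
  obtain ⟨h, hh⟩ := hOnorm _ hgO (Ideal.Quotient.mk JB b)
  obtain ⟨a, rfl⟩ := Ideal.Quotient.mk_surjective h
  letI : Algebra Γ(G.U, W₀) Γ(G.U, V₁) := (G.U.presheaf.map (homOfLE hV₁W).op).hom.toAlgebra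
  haveI : IsLocalization.Away g₁ Γ(G.U, V₁) := hW₀.isLocalization_basicOpen g₁
  obtain ⟨n, a₀, ha₀⟩ := IsLocalization.Away.surj g₁ a
  have hcomap : ∀ (r : G.R) (hr : r ∈ G.t ⁻¹ᵁ V₁),
      (hB₁.primeIdealOf ⟨r, hr⟩).comap (algebraMap Γ(G.U, V₁) Γ(G.R, G.t ⁻¹ᵁ V₁)) = pr (G.t r) hr := fun r hr => by
    show _ = hV₁.primeIdealOf _
    rw [← IsAffineOpen.comap_primeIdealOf_appLE V₁ hV₁ (G.t ⁻¹ᵁ V₁) hB₁ le_rfl hr]
    simp [RingHom.algebraMap_toAlgebra, Scheme.Hom.app_eq_appLE]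
  -- the description of the basic open on the subset
  have key : ∀ y : G.U, y ∉ Eo → (y ∈ G.U.basicOpen (g * a₀) ↔
      y ∈ G.U.basicOpen g ∧ ∀ r : G.R, G.t r = y → G.s r ∈ G.U.basicOpen g) := by
    intro y hy
    rw [Scheme.basicOpen_mul]
    refine and_congr_right fun hyg => ?_
    have hyV : y ∈ V₁ := hΩV (hgΩ hyg)
    obtain ⟨p', hp'⟩ := hlift _ ((hJmem y hyV).1 hy)
    have hmk : ∀ c : Γ(G.U, V₁), Ideal.Quotient.mk J c ∈ p'.asIdeal ↔ c ∈ (pr y hyV).asIdeal := fun c =>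
      iff_of_eq (congrArg (fun p : PrimeSpectrum Γ(G.U, V₁) => c ∈ p.asIdeal) hp')
    have hg1 : gV ∉ (pr y hyV).asIdeal := (hbasic hV₁ gV y hyV).1 ((hgV y hyV).2 hyg)
    have hya : y ∈ G.U.basicOpen a₀ ↔ a ∉ (pr y hyV).asIdeal := by
      have hu : IsUnit (algebraMap Γ(G.U, W₀) Γ(G.U, V₁) g₁ ^ n) :=
        (IsLocalization.Away.algebraMap_isUnit g₁).pow n
      have e1 : G.U.basicOpen (algebraMap Γ(G.U, W₀) Γ(G.U, V₁) a₀) = V₁ ⊓ G.U.basicOpen a₀ :=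
        Scheme.basicOpen_res _ _ _
      rw [← hbasic hV₁ a y hyV]
      rw [← ha₀, Scheme.basicOpen_mul, Scheme.basicOpen_of_isUnit _ hu] at e1
      exact ⟨fun h => (e1.symm.le ⟨hyV, h⟩).1, fun h => (e1.le ⟨h, hyV⟩).2⟩
    rw [SetLike.mem_coe, hya, ← hmk a, hh p', hmk gV, and_iff_right hg1]
    constructor
    · intro hall r hr
      subst hr
      have hker : RingHom.ker (Ideal.Quotient.mk JB) ≤ (hB₁.primeIdealOf ⟨r, hyV⟩).asIdeal := by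
        rw [Ideal.mk_ker, Ideal.map_le_iff_le_comap]
        exact ((hJmem _ hyV).1 hy).trans (le_of_eq (congrArg PrimeSpectrum.asIdeal (hcomap r hyV)).symm)
      obtain ⟨q, hq⟩ := (range_comap_of_surjective (S := Γ(G.R, G.t ⁻¹ᵁ V₁) ⧸ JB) _
        Ideal.Quotient.mk_surjective).symm.subset hker
      have hbr : b ∉ (hB₁.primeIdealOf ⟨r, hyV⟩).asIdeal := by
        rw [← hq]
        refine hall q (hθc.injective ?_)
        rw [hp', ← hcomap r hyV, ← hq]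
        rfl
      have h2 := (hbasic hB₁ b r hyV).2 hbr
      rw [hb] at h2
      exact h2.2
    · intro hall q hq hbq
      let q₀ := PrimeSpectrum.comap (Ideal.Quotient.mk JB) q
      have hr : hB₁.fromSpec q₀ ∈ G.t ⁻¹ᵁ V₁ := hB₁.range_fromSpec.subset ⟨_, rfl⟩
      have hq' : hB₁.primeIdealOf ⟨_, hr⟩ = q₀ :=
        hB₁.fromSpec.isOpenEmbedding.injective (hB₁.fromSpec_primeIdealOf _)
      have e := hcomap _ hr
      rw [hq'] at e
      have e2 : pr _ hr = pr y hyV := by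
        rw [← e, ← hp', ← hq]
        rfl
      have e' : G.t (hB₁.fromSpec q₀) = y := by
        have := congrArg hV₁.fromSpec e2
        rwa [hV₁.fromSpec_primeIdealOf, hV₁.fromSpec_primeIdealOf] at this
      have h2 : hB₁.fromSpec q₀ ∈ G.R.basicOpen b := by
        rw [hb]; exact ⟨hr, hall _ e'⟩
      rw [hbasic hB₁ b _ hr, hq'] at h2
      exact h2 hbq
  refine ⟨g * a₀, ?_, fun y hy => (key y (hPE y hy)).2 ⟨hgP hy, fun r hr => hgP (hPinv r (hr ▸ hy))⟩,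
    fun r hr hrf => ?_⟩
  · rw [Scheme.basicOpen_mul]
    exact inf_le_left.trans ((hgΩ.trans hΩV).trans hg₁U)
  · have hsE : G.s r ∉ Eo := fun h => hr (hEo.le h)
    have h1 := (key _ hr).1 hrf
    refine (key _ hsE).2 ⟨h1.2 r rfl, fun r' hr' => ?_⟩
    obtain ⟨w, hwt, hws⟩ := exists_comp_point r r' hr'.symm
    rw [← hws]
    exact h1.2 w hwt

end Groth.Agent.GrpdDimOne19
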